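import Mathlib

/-!
# S3510, row C, task B: a good multiple `c s²` (helper588)

`count` : exact statement of `tools/plans/S3510_C.lean.txt`.
-/

set_option autoImplicit false

namespace Cfsg.Agent.H588.RC

/-- the fixed field -/
def fx {K : Type*} [Field K] (τ : K ≃+* K) : Subfield K := RingHom.eqLocusField (τ : K →+* K) (RingHom.id K)

theorem mem_fx {K : Type*} [Field K] {τ : K ≃+* K} {a : K} : a ∈ fx τ ↔ τ a = a := Iff.rfl

/-- the degree of the fixed field of an automorphism of order `p` -/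
theorem card_fx {K : Type*} [Field K] [Finite K] {p : ℕ} (hp : p.Prime) {τ : K ≃+* K} (hτ : τ ^ p = 1) (hτ1 : τ ≠ 1) :
    Nat.card K = Nat.card ↥(fx τ) ^ p := by
  classical
  have : Fact p.Prime := ⟨hp⟩
  have ho : orderOf τ = p := orderOf_eq_prime hτ hτ1
  let G : Subgroup (K ≃+* K) := Subgroup.zpowers τ
  have hGc : Nat.card ↥G = p := by rw [Nat.card_zpowers, ho]
  have hfin : Finite ↥G := Nat.finite_of_card_ne_zero (by rw [hGc]; exact hp.ne_zero)
  have : Fintype ↥G := Fintype.ofFinite _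
  have hff : FaithfulSMul ↥G K := ⟨fun {a b} h => by
    apply Subtype.ext
    ext x
    exact h x⟩
  have h1 := FixedPoints.finrank_eq_card ↥G K
  rw [← Nat.card_eq_fintype_card, hGc] at h1
  have h2 : FixedPoints.subfield ↥G K = fx τ := by
    ext a
    rw [mem_fx]
    constructor
    · intro ha
      exact ha ⟨τ, Subgroup.mem_zpowers τ⟩
    · rintro ha ⟨g, hg⟩
      have h1 : Subgroup.zpowers τ ≤ MulAction.stabilizer (K ≃+* K) a := by
        rw [Subgroup.zpowers_le]
        exact ha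
      exact h1 hg
  rw [h2] at h1
  have h3 : Nat.card K = Nat.card ↥(fx τ) ^ Module.finrank ↥(fx τ) K :=
    Module.natCard_eq_pow_finrank (K := ↥(fx τ)) (V := K)
  rw [h3, h1]

theorem fx_pow {K : Type*} [Field K] [Finite K] {p f r : ℕ} (hp : p.Prime) (hK : Nat.card K = p ^ f) (hr : r.Prime)
    {τ : K ≃+* K} (hτ : τ ^ r = 1) (hτ1 : τ ≠ 1) : ∃ m, Nat.card ↥(fx τ) = p ^ m ∧ r * m = f ∧ 1 ≤ m := by
  have h1 := card_fx hr hτ hτ1
  have h2 : Nat.card ↥(fx τ) ∣ p ^ f := by
    rw [← hK, h1]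
    exact dvd_pow_self _ hr.ne_zero
  obtain ⟨m, -, hm⟩ := (Nat.dvd_prime_pow hp).1 h2
  refine ⟨m, hm, ?_, ?_⟩
  · rw [hK, hm, ← pow_mul] at h1
    rw [mul_comm]
    exact (Nat.pow_right_injective hp.two_le h1).symm
  · rcases Nat.eq_zero_or_pos m with h | h
    · exfalso
      rw [h, pow_zero] at hm
      have : Nontrivial ↥(fx τ) := inferInstance
      exact absurd (Finite.one_lt_card (α := ↥(fx τ))) (by rw [hm]; exact lt_irrefl _)
    · exact h

/-- the sum -/
def Sg (p M : ℕ) : ℕ := ∑ j ∈ Finset.Icc 1 M, (p ^ j - 1)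

theorem geo {p : ℕ} (hp : 1 ≤ p) (M : ℕ) : (p - 1) * Sg p M + p + (p - 1) * M = p ^ (M + 1) := by
  induction M with
  | zero => simp [Sg]
  | succ M ih =>
    have h1 : Sg p (M + 1) = Sg p M + (p ^ (M + 1) - 1) := by
      unfold Sg
      rw [Finset.sum_Icc_succ_top (by omega)]
    obtain ⟨k, rfl⟩ : ∃ k, p = k + 1 := ⟨p - 1, by omega⟩
    have h2 : 1 ≤ (k + 1) ^ (M + 1) := Nat.one_le_pow _ _ (by omega)
    obtain ⟨t, ht⟩ : ∃ t, (k + 1) ^ (M + 1) = t + 1 := ⟨(k + 1) ^ (M + 1) - 1, by omega⟩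
    rw [h1, pow_succ (k + 1) (M + 1), ht]
    rw [ht] at ih
    simp only [Nat.add_sub_cancel] at ih ⊢
    linear_combination ih

theorem sum_le {ι : Type*} [Fintype ι] {p M : ℕ} (m : ι → ℕ) (hm : Function.Injective m) (h1 : ∀ i, 1 ≤ m i)
    (h2 : ∀ i, m i ≤ M) : ∑ i, (p ^ m i - 1) ≤ Sg p M := by
  classical
  unfold Sg
  rw [← Finset.sum_image (s := Finset.univ) (g := m) (f := fun j => p ^ j - 1) (fun _ _ _ _ h => hm h)]
  refine Finset.sum_le_sum_of_subset fun j hj => ?_
  obtain ⟨i, -, rfl⟩ := Finset.mem_image.1 hj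
  exact Finset.mem_Icc.2 ⟨h1 i, h2 i⟩

theorem ineq1 {p M f : ℕ} (hp : p.Prime) (h : M + 1 ≤ f ∨ (f = 1 ∧ M = 0)) (hq : 7 ≤ p ^ f) :
    (if p = 2 then 1 else 2) * Sg p M < p ^ f - 1 := by
  have h2 := hp.two_le
  rcases h with h | ⟨rfl, rfl⟩
  · have h3 := geo (p := p) (by omega) M
    have h4 : p ^ (M + 1) ≤ p ^ f := Nat.pow_le_pow_right (by omega) h
    by_cases hp2 : p = 2
    · subst hp2
      simp only [if_true]
      omega
    · rw [if_neg hp2]
      have h5 : 2 * Sg p M ≤ (p - 1) * Sg p M := Nat.mul_le_mul_right _ (by omega)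
      omega
  · simp only [Sg]
    simp
    simp at hq
    omega

theorem ineq2 {p M f : ℕ} (hp : p.Prime) (h : M + 1 ≤ f ∨ (f = 1 ∧ M = 0)) (h' : p ≤ 3 → M + 2 ≤ f)
    (hq : 7 ≤ p ^ f) : (if p = 2 then 1 else 2) * (p ^ (f - 1) - 1 + Sg p M) < p ^ f - 1 := by
  have h2 := hp.two_le
  have h3 := geo (p := p) (by omega) M
  by_cases hp3 : p ≤ 3
  · have h4 := h' hp3
    have h5 : p ^ (M + 1) ≤ p ^ (f - 1) := Nat.pow_le_pow_right (by omega) (by omega)
    obtain ⟨g, rfl⟩ : ∃ g, f = g + 1 := ⟨f - 1, by omega⟩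
    simp only [Nat.add_sub_cancel] at h5 ⊢
    rw [pow_succ] at hq ⊢
    interval_cases p
    · simp only [if_true]
      omega
    · simp only [show ¬ (3 = 2) by norm_num, if_false]
      omega
  · rw [if_neg (by omega)]
    have hp5 : 5 ≤ p := by
      rcases Nat.lt_or_ge p 5 with h6 | h6
      · have : p = 4 := by omega
        rw [this] at hp
        norm_num at hp
      · exact h6
    rcases h with h | ⟨rfl, rfl⟩
    · have h4 : p ^ (M + 1) ≤ p ^ f := Nat.pow_le_pow_right (by omega) h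
      obtain ⟨g, rfl⟩ : ∃ g, f = g + 1 := ⟨f - 1, by omega⟩
      simp only [Nat.add_sub_cancel]
      have h5 : 4 * Sg p M ≤ (p - 1) * Sg p M := Nat.mul_le_mul_right _ (by omega)
      have h6 : 5 * p ^ g ≤ p ^ (g + 1) := by
        rw [pow_succ, mul_comm]; exact Nat.mul_le_mul_left _ hp5
      have h7 : 1 ≤ p ^ g := Nat.one_le_pow _ _ (by omega)
      omega
    · simp only [Sg]
      simp
      simp at hq
      omega

section Main

variable {F : Type*} [Field F] [Fintype F] [DecidableEq F]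

/-- the multiples -/
def Gd (c : F) : Finset F := (Finset.univ.filter fun s : F => s ≠ 0).image fun s => c * s ^ 2

theorem card_Gd {p : ℕ} (hp : p.Prime) [CharP F p] {c : F} (hc : c ≠ 0) :
    Fintype.card F - 1 ≤ (if p = 2 then 1 else 2) * (Gd c).card := by
  have h0 : (Finset.univ.filter fun s : F => s ≠ 0).card = Fintype.card F - 1 := by
    rw [Finset.filter_ne', Finset.card_erase_of_mem (Finset.mem_univ _), Finset.card_univ]
  rw [← h0]
  refine Finset.card_le_mul_card_image _ _ fun a ha => ?_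
  obtain ⟨y, hy, rfl⟩ := Finset.mem_image.1 ha
  have key : ∀ x : F, c * x ^ 2 = c * y ^ 2 → x = y ∨ x = -y := by
    intro x hx
    exact sq_eq_sq_iff_eq_or_eq_neg.1 (mul_left_cancel₀ hc hx)
  by_cases h2 : p = 2
  · rw [if_pos h2]
    subst h2
    refine Finset.card_le_one.2 fun a ha b hb => ?_
    have : ∀ x : F, c * x ^ 2 = c * y ^ 2 → x = y := by
      intro x hx
      rcases key x hx with h | h
      · exact h
      · rw [h, CharTwo.neg_eq]
    rw [this a (Finset.mem_filter.1 ha).2, this b (Finset.mem_filter.1 hb).2]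
  · rw [if_neg h2]
    refine le_trans (Finset.card_le_card (t := {y, -y}) fun x hx => ?_) Finset.card_le_two
    rcases key x (Finset.mem_filter.1 hx).2 with h | h
    · rw [h]; exact Finset.mem_insert_self _ _
    · rw [h]; exact Finset.mem_insert_of_mem (Finset.mem_singleton_self _)

theorem card_bad (τ : F ≃+* F) (a : F) :
    (Finset.univ.filter fun y : F => y ≠ 0 ∧ τ y = a * y).card ≤ Nat.card ↥(fx τ) - 1 := by
  have : Fintype ↥(fx τ) := Fintype.ofFinite _
  have h1 : Nat.card ↥(fx τ) = (Finset.univ.filter fun y : F => τ y = y).card := by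
    rw [Nat.card_eq_fintype_card, Fintype.card_of_subtype]
    intro x
    rw [Finset.mem_filter, mem_fx]
    simp
  rcases (Finset.univ.filter fun y : F => y ≠ 0 ∧ τ y = a * y).eq_empty_or_nonempty with h | ⟨z, hz⟩
  · rw [h]; simp
  · obtain ⟨-, hz0, hz1⟩ := Finset.mem_filter.1 hz
    have h0 : (0 : F) ∈ Finset.univ.filter fun y : F => τ y = y := Finset.mem_filter.2 ⟨Finset.mem_univ _, map_zero τ⟩
    rw [h1, ← Finset.card_erase_of_mem h0]
    refine Finset.card_le_card_of_injOn (fun y => y / z) ?_ ?_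
    · intro y hy
      obtain ⟨-, hy0, hy1⟩ := Finset.mem_filter.1 hy
      have hτz : τ z ≠ 0 := (map_ne_zero τ).2 hz0
      have ha : a ≠ 0 := by
        rintro rfl
        rw [zero_mul] at hz1
        exact hτz hz1
      refine Finset.mem_coe.2 (Finset.mem_erase.2 ⟨div_ne_zero hy0 hz0, Finset.mem_filter.2 ⟨Finset.mem_univ _, ?_⟩⟩)
      rw [map_div₀, hy1, hz1, mul_div_mul_left _ _ ha]
    · intro x _ y _ hxy
      exact (div_left_inj' hz0).1 hxy

theorem card_K {p f : ℕ} (hp : p.Prime) (hF : Nat.card F = p ^ f) (K : AddSubgroup F) (hK : K ≠ ⊤) {x₀ : F}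
    (hx : x₀ ≠ 0) [DecidablePred fun y : F => y ≠ 0 ∧ y * x₀ ∈ K] :
    (Finset.univ.filter fun y : F => y ≠ 0 ∧ y * x₀ ∈ K).card ≤ p ^ (f - 1) - 1 := by
  classical
  have h1 : Nat.card K ∣ p ^ f := by rw [← hF]; exact AddSubgroup.card_addSubgroup_dvd_card K
  obtain ⟨k, hk, hk'⟩ := (Nat.dvd_prime_pow hp).1 h1
  have h2 : k ≠ f := by
    rintro rfl
    exact hK (AddSubgroup.eq_top_of_card_eq K (by rw [hk', hF]))
  have h3 : Nat.card K ≤ p ^ (f - 1) := by
    rw [hk']; exact Nat.pow_le_pow_right hp.pos (by omega)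
  have h4 : Nat.card K = (Finset.univ.filter fun y : F => y ∈ K).card := by
    rw [Nat.card_eq_fintype_card, Fintype.card_of_subtype]
    intro x
    simp
  refine le_trans ?_ (Nat.sub_le_sub_right h3 1)
  have h0 : (0 : F) ∈ Finset.univ.filter fun y : F => y ∈ K := Finset.mem_filter.2 ⟨Finset.mem_univ _, K.zero_mem⟩
  rw [h4, ← Finset.card_erase_of_mem h0]
  refine Finset.card_le_card_of_injOn (fun y => y * x₀) ?_ ?_
  · intro y hy
    obtain ⟨-, hy0, hy1⟩ := Finset.mem_filter.1 hy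
    exact Finset.mem_coe.2 (Finset.mem_erase.2 ⟨mul_ne_zero hy0 hx, Finset.mem_filter.2 ⟨Finset.mem_univ _, hy1⟩⟩)
  · intro x _ y _ hxy
    exact mul_right_cancel₀ hx hxy

end Main

theorem count {F : Type*} [Field F] [Finite F] (h7 : 7 ≤ Nat.card F) (h9 : Nat.card F ≠ 9)
    {ι : Type*} [Finite ι] (σ : ι → F ≃+* F) (a : ι → F) (r : ι → ℕ) (hr : ∀ i, (r i).Prime)
    (hσ : ∀ i, σ i ≠ 1) (hσr : ∀ i, σ i ^ r i = 1) (hinj : Function.Injective r)
    (c : F) (hc : c ≠ 0) :
    (∃ s : F, s ≠ 0 ∧ ∀ i, σ i (c * s ^ 2) ≠ a i * (c * s ^ 2)) ∧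
    ((∀ i, r i ≠ ringChar F) → ∀ K : AddSubgroup F, K ≠ ⊤ → ∀ x₀ : F, x₀ ≠ 0 →
      ∃ s : F, s ≠ 0 ∧ (∀ i, σ i (c * s ^ 2) ≠ a i * (c * s ^ 2)) ∧ c * s ^ 2 * x₀ ∉ K) := by
  classical
  have := Fintype.ofFinite F
  have := Fintype.ofFinite ι
  set p := ringChar F with hpd
  have hCh : CharP F p := ringChar.charP F
  obtain ⟨f', hp, hf⟩ := FiniteField.card F p
  set f : ℕ := (f' : ℕ) with hfd
  have hF : Nat.card F = p ^ f := by rw [Nat.card_eq_fintype_card, hf]
  have hf1 : 1 ≤ f := f'.2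
  choose m hm1 hm2 hm3 using fun i => fx_pow hp hF (hr i) (hσr i) (hσ i)
  have hminj : Function.Injective m := by
    intro i j h
    apply hinj
    have h1 := hm2 i
    rw [← hm2 j, h] at h1
    exact Nat.eq_of_mul_eq_mul_right (by have := hm3 j; omega) h1
  have hq : 7 ≤ p ^ f := by rw [← hF]; exact h7
  -- the bad elements
  set B : ι → Finset F := fun i => Finset.univ.filter fun y : F => y ≠ 0 ∧ σ i y = a i * y with hB
  have hBc : ∀ M, (∀ i, m i ≤ M) → (Finset.univ.biUnion B).card ≤ Sg p M := by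
    intro M hM
    refine le_trans Finset.card_biUnion_le (le_trans (Finset.sum_le_sum fun i _ => ?_) (sum_le m hminj hm3 hM))
    rw [← hm1 i]
    exact card_bad (σ i) (a i)
  have hG := card_Gd (F := F) hp hc
  rw [← Nat.card_eq_fintype_card, hF] at hG
  have hm2' : ∀ i, m i ≤ f / 2 := by
    intro i
    rw [Nat.le_div_iff_mul_le (by norm_num), ← hm2 i, mul_comm]
    exact Nat.mul_le_mul_right _ (hr i).two_le
  have hM : f / 2 + 1 ≤ f ∨ (f = 1 ∧ f / 2 = 0) := by omega
  have hlt : ∀ {x y k : ℕ}, k * x < p ^ f - 1 → p ^ f - 1 ≤ k * y → x < y := fun h1 h2 =>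
    Nat.lt_of_mul_lt_mul_left (lt_of_lt_of_le h1 h2)
  constructor
  · by_contra hcon
    push Not at hcon
    have h1 : Gd c ⊆ Finset.univ.biUnion B := by
      intro y hy
      obtain ⟨s, hs, rfl⟩ := Finset.mem_image.1 hy
      have hs0 := (Finset.mem_filter.1 hs).2
      obtain ⟨i, hi⟩ := hcon s hs0
      exact Finset.mem_biUnion.2 ⟨i, Finset.mem_univ _, Finset.mem_filter.2 ⟨Finset.mem_univ _,
        mul_ne_zero hc (pow_ne_zero 2 hs0), hi⟩⟩
    have h2 := (Finset.card_le_card h1).trans (hBc (f / 2) hm2')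
    exact absurd h2 (not_le.2 (hlt (ineq1 hp hM hq) hG))
  · intro hrp K hK x₀ hx
    by_contra hcon
    push Not at hcon
    set B' : Finset F := Finset.univ.filter fun y : F => y ≠ 0 ∧ y * x₀ ∈ K with hB'
    have h1 : Gd c ⊆ B' ∪ Finset.univ.biUnion B := by
      intro y hy
      obtain ⟨s, hs, rfl⟩ := Finset.mem_image.1 hy
      have hs0 := (Finset.mem_filter.1 hs).2
      have hcs : c * s ^ 2 ≠ 0 := mul_ne_zero hc (pow_ne_zero 2 hs0)
      by_cases h2 : ∀ i, σ i (c * s ^ 2) ≠ a i * (c * s ^ 2)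
      · exact Finset.mem_union_left _ (Finset.mem_filter.2 ⟨Finset.mem_univ _, hcs, hcon s hs0 h2⟩)
      · push Not at h2
        obtain ⟨i, hi⟩ := h2
        exact Finset.mem_union_right _ (Finset.mem_biUnion.2 ⟨i, Finset.mem_univ _,
          Finset.mem_filter.2 ⟨Finset.mem_univ _, hcs, hi⟩⟩)
    obtain ⟨M, hM1, hM2, hM3⟩ : ∃ M, (∀ i, m i ≤ M) ∧ (M + 1 ≤ f ∨ (f = 1 ∧ M = 0)) ∧ (p ≤ 3 → M + 2 ≤ f) := by
      by_cases hp2 : p = 2
      · refine ⟨f / 3, fun i => ?_, ?_, ?_⟩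
        · rw [Nat.le_div_iff_mul_le (by norm_num), ← hm2 i, mul_comm]
          refine Nat.mul_le_mul_right _ ?_
          have h3 := (hr i).two_le
          have h4 := hrp i
          omega
        · omega
        · intro _
          have : 3 ≤ f := by
            by_contra h
            have h5 : f ≤ 2 := by omega
            rw [hp2] at hq
            have : 2 ^ f ≤ 2 ^ 2 := Nat.pow_le_pow_right (by norm_num) h5
            omega
          omega
      · refine ⟨f / 2, hm2', hM, fun h3 => ?_⟩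
        have hp3 : p = 3 := by have := hp.two_le; omega
        have : 3 ≤ f := by
          by_contra h
          have h5 : f = 1 ∨ f = 2 := by omega
          rw [hF] at h9
          rcases h5 with h5 | h5 <;> rw [h5, hp3] at hq h9 <;> omega
        omega
    have h2 : (Gd c).card ≤ p ^ (f - 1) - 1 + Sg p M :=
      (Finset.card_le_card h1).trans ((Finset.card_union_le _ _).trans (add_le_add (card_K hp hF K hK hx) (hBc M hM1)))
    exact absurd h2 (not_le.2 (hlt (ineq2 hp hM2 hM3 hq) hG))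

end Cfsg.Agent.H588.RC
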